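import Groth.Agent.BertiniLib.Core
import Mathlib.RingTheory.Smooth.Locus
import Mathlib.RingTheory.Nullstellensatz
/-!
Bertini on standard smooth affine varieties: the general member is smooth.
-/

set_option autoImplicit false
set_option maxHeartbeats 1000000
set_option backward.isDefEq.respectTransparency false
set_option linter.style.haveILetI false
universe u
open TensorProduct KaehlerDifferential Module

namespace Groth.Agent.BertiniLib

variable {k : Type u} [Field k] {T : Type u} [CommRing T] [Algebra k T]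

theorem finitePresentation_quotient [Algebra.IsStandardSmooth k T] (s : T) :
    Algebra.FinitePresentation k (T ⧸ Ideal.span {s}) :=
  Algebra.FinitePresentation.quotient ⟨{s}, by simp⟩

/-- A transversal member is smooth. -/
theorem smooth_of_transversal [Algebra.IsStandardSmooth k T] {r : ℕ} (b : Basis (Fin r) T Ω[T⁄k]) (s : T)
    (h : ∀ Q : Ideal T, Q.IsPrime → s ∈ Q → ∃ l, b.repr (D k T s) l ∉ Q) :
    Algebra.Smooth k (T ⧸ Ideal.span {s}) := by
  haveI := finitePresentation_quotient (k := k) s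
  refine ⟨Algebra.smoothLocus_eq_univ_iff.1 (Set.eq_univ_of_forall fun q => ?_), inferInstance⟩
  let mk := Ideal.Quotient.mk (Ideal.span {s})
  let Q := q.asIdeal.comap mk
  haveI : Q.IsPrime := Ideal.IsPrime.comap _
  have hsQ : s ∈ Q := by
    show mk s ∈ q.asIdeal
    rw [Ideal.Quotient.eq_zero_iff_mem.2 (Ideal.subset_span (Set.mem_singleton s))]
    exact zero_mem _
  obtain ⟨l, hl⟩ := h Q inferInstance hsQ
  obtain ⟨r', rfl⟩ : ∃ r', r = r' + 1 := ⟨r - 1, by have := l.2; omega⟩
  have hne : (1 : Q.ResidueField) ⊗ₜ[T] D k T s ≠ 0 := by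
    intro h0
    have h2 := congrArg (fun z => (b.baseChange Q.ResidueField).repr z l) h0
    erw [Basis.baseChange_repr_tmul, map_zero] at h2
    rw [Algebra.smul_def, mul_one, Finsupp.zero_apply] at h2
    exact hl (Ideal.algebraMap_residueField_eq_zero.1 h2)
  obtain ⟨g, hgQ, hstd⟩ := BertiniAff.exists_smooth_section k b Q s hne
  haveI := hstd
  let U := Localization.Away g
  let U' := U ⧸ Ideal.span {algebraMap T U s}
  have hmapspan : (Ideal.span {s}).map (algebraMap T U) = Ideal.span {algebraMap T U s} := by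
    rw [Ideal.map_span, Set.image_singleton]
  letI : Algebra (T ⧸ Ideal.span {s}) U' :=
    RingHom.toAlgebra (R := T ⧸ Ideal.span {s}) (S := U') (Ideal.quotientMap (Ideal.span {algebraMap T U s})
      (algebraMap T U) (Ideal.map_le_iff_le_comap.1 hmapspan.le))
  haveI : IsScalarTower k (T ⧸ Ideal.span {s}) U' := IsScalarTower.of_algebraMap_eq fun a => by
    show Ideal.Quotient.mk _ (algebraMap k U a) = Ideal.Quotient.mk _ (algebraMap T U (algebraMap k T a))
    exact congrArg _ (IsScalarTower.algebraMap_apply k T U a)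
  haveI : IsLocalization (Submonoid.powers (mk g)) U' := by
    let g' : U →+* U' := Ideal.Quotient.mk (Ideal.span {algebraMap T U s})
    have hH : g'.comp (algebraMap T U) = (algebraMap (T ⧸ Ideal.span {s}) U').comp mk := by
      refine RingHom.ext fun y => ?_
      simp only [RingHom.comp_apply]
      exact (Ideal.quotientMap_mk (f := algebraMap T U) (J := Ideal.span {s})).symm
    have hK : RingHom.ker g' ≤ (RingHom.ker mk).map (algebraMap T U) := by
      rw [show RingHom.ker g' = _ from Ideal.mk_ker, show RingHom.ker mk = _ from Ideal.mk_ker, hmapspan]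
    have h := IsLocalization.of_surjective (R' := T ⧸ Ideal.span {s}) (S' := U') (Submonoid.powers g) U mk
      Ideal.Quotient.mk_surjective g' Ideal.Quotient.mk_surjective hH hK
    rwa [Submonoid.map_powers] at h
  haveI : Algebra.IsStandardSmooth k U' := hstd.isStandardSmooth r'
  haveI : Algebra.Smooth k (Localization.Away (mk g)) := Algebra.Smooth.of_equiv
    ((IsLocalization.algEquiv (Submonoid.powers (mk g)) U' (Localization.Away (mk g))).restrictScalars k)
  exact Algebra.basicOpen_subset_smoothLocus_iff_smooth.2 ‹_› (show q ∈ PrimeSpectrum.basicOpen (mk g) from hgQ)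

/-- Systems with equations meeting the constant polynomials have smooth general members. -/
theorem exists_smooth_member [Algebra.IsStandardSmooth k T] {N : ℕ} (σ : Fin N → T)
    (H : ∀ (r : ℕ) (b : Basis (Fin r) T Ω[T⁄k]), ∃ g : MvPolynomial (Fin N) k, g ≠ 0 ∧
      MvPolynomial.map (algebraMap k T) g ∈ Ideal.span (Set.range (eqns b σ))) :
    ∃ g : MvPolynomial (Fin N) k, g ≠ 0 ∧ ∀ c : Fin N → k, MvPolynomial.eval c g ≠ 0 →
      Algebra.Smooth k (T ⧸ Ideal.span {∑ i, algebraMap k T (c i) * σ i}) := by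
  rcases subsingleton_or_nontrivial T with hT | hT
  · refine ⟨1, one_ne_zero, fun c _ => ?_⟩
    haveI := finitePresentation_quotient (k := k) (∑ i, algebraMap k T (c i) * σ i)
    haveI : Subsingleton (T ⧸ Ideal.span {∑ i, algebraMap k T (c i) * σ i}) :=
      Ideal.Quotient.mk_surjective.subsingleton
    exact ⟨Algebra.smoothLocus_eq_univ_iff.1 (Set.eq_univ_of_forall fun q => isEmptyElim q), inferInstance⟩
  · let b := Module.finBasis T Ω[T⁄k]
    obtain ⟨g, hg0, hg⟩ := H _ b
    exact ⟨g, hg0, fun c hc => smooth_of_transversal b _ fun Q hQ hs => transversal_of_mem b σ g hg c hc Q hQ hs⟩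

/-- The jets of a jet-spanning system span. -/
theorem span_jets_eq_top [IsAlgClosed k] [Algebra.IsStandardSmooth k T] {ι : Type*} [Fintype ι] (σ : ι → T)
    (hj : ∀ m : Ideal T, m.IsMaximal → ∀ t : T, ∃ c : ι → k, ∑ i, algebraMap k T (c i) * σ i - t ∈ m ^ 2) :
    Submodule.span T (Set.range fun i => (σ i, D k T (σ i))) = ⊤ := by
  let S := Submodule.span T (Set.range fun i => (σ i, D k T (σ i)))
  let Ann := (Submodule.colon S (⊤ : Submodule T (T × Ω[T⁄k])))
  by_contra hne
  have hAnn : Ann ≠ ⊤ := fun h => hne (eq_top_iff.2 fun x _ => by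
    have h1 := Submodule.mem_colon.1 ((Ideal.eq_top_iff_one Ann).1 h) x trivial
    rwa [one_smul] at h1)
  obtain ⟨m, hm, hAm⟩ := Ideal.exists_le_maximal Ann hAnn
  haveI := hm
  haveI : Module.Finite k (T ⧸ m) := by
    letI := Ideal.Quotient.field m
    exact finite_of_finite_type_of_isJacobsonRing k (T ⧸ m)
  have hk : Function.Bijective (algebraMap k (T ⧸ m)) := by
    haveI : IsDomain (T ⧸ m) := Ideal.Quotient.isDomain m
    haveI : Algebra.IsIntegral k (T ⧸ m) := Algebra.IsIntegral.of_finite k _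
    exact IsAlgClosed.algebraMap_bijective_of_isIntegral
  have hconst : ∀ x : T, ∃ a : k, x - algebraMap k T a ∈ m := fun x => by
    obtain ⟨a, ha⟩ := hk.2 (Ideal.Quotient.mk m x)
    exact ⟨a, Ideal.Quotient.eq.1 ha.symm⟩
  let mΩ : Submodule T Ω[T⁄k] := m • ⊤
  have hD2 : ∀ z ∈ m ^ 2, D k T z ∈ mΩ := by
    intro z hz
    rw [pow_two] at hz
    refine Submodule.mul_induction_on hz (fun x hx y hy => ?_) (fun x y hx hy => ?_)
    · rw [Derivation.leibniz]
      exact add_mem (Submodule.smul_mem_smul hx trivial) (Submodule.smul_mem_smul hy trivial)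
    · rw [map_add]; exact add_mem hx hy
  have hΩ : ∀ ω : Ω[T⁄k], ∃ t ∈ m, ω - D k T t ∈ mΩ := by
    intro ω
    have hω : ω ∈ Submodule.span T (Set.range (D k T)) := KaehlerDifferential.span_range_derivation k T ▸ trivial
    induction hω using Submodule.span_induction with
    | mem x hx =>
      obtain ⟨y, rfl⟩ := hx
      obtain ⟨a, ha⟩ := hconst y
      exact ⟨_, ha, by simp⟩
    | zero => exact ⟨0, zero_mem _, by simp⟩
    | add x y _ _ hx hy =>
      obtain ⟨t, ht, hx⟩ := hx
      obtain ⟨t', ht', hy⟩ := hy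
      refine ⟨t + t', add_mem ht ht', ?_⟩
      have := add_mem hx hy
      rw [map_add]
      convert this using 1
      abel
    | smul c x _ hx =>
      obtain ⟨t, ht, hx⟩ := hx
      obtain ⟨a, ha⟩ := hconst c
      refine ⟨algebraMap k T a * t, Ideal.mul_mem_left _ _ ht, ?_⟩
      have h1 := add_mem (Submodule.smul_mem mΩ (algebraMap k T a) hx)
        (Submodule.smul_mem_smul ha (Submodule.mem_top (x := x)) : _ ∈ mΩ)
      rw [← Algebra.smul_def, Derivation.map_smul, ← algebraMap_smul T a (D k T t)]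
      convert h1 using 1
      rw [smul_sub, sub_smul]
      abel
  let mM : Submodule T (T × Ω[T⁄k]) := m • ⊤
  have hinl : ∀ x ∈ m, ((x, 0) : T × Ω[T⁄k]) ∈ mM := fun x hx => by
    simpa using (Submodule.smul_mem_smul hx (Submodule.mem_top (x := ((1, 0) : T × Ω[T⁄k]))) : _ ∈ mM)
  have hinr : ∀ w ∈ mΩ, ((0, w) : T × Ω[T⁄k]) ∈ mM := fun w hw => by
    refine Submodule.smul_induction_on hw (fun a ha w _ => ?_) (fun x y hx hy => ?_)
    · simpa using (Submodule.smul_mem_smul ha (Submodule.mem_top (x := ((0, w) : T × Ω[T⁄k]))) : _ ∈ mM)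
    · simpa using add_mem hx hy
  have hgen : ∀ v : T × Ω[T⁄k], v ∈ S ⊔ mM := by
    rintro ⟨x, ω⟩
    obtain ⟨a, ha⟩ := hconst x
    obtain ⟨t, ht, hω⟩ := hΩ ω
    obtain ⟨c, hc⟩ := hj m hm (algebraMap k T a + t)
    let s := ∑ i, algebraMap k T (c i) * σ i
    have hsS : (s, D k T s) ∈ S := by
      have e : (s, D k T s) = ∑ i, algebraMap k T (c i) • (σ i, D k T (σ i)) := by
        ext
        · simp [s, Prod.fst_sum, Algebra.smul_def]
        · simp [s, Prod.snd_sum, map_sum]
      rw [e]
      exact sum_mem fun i _ => Submodule.smul_mem _ _ (Submodule.subset_span ⟨i, rfl⟩)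
    have hms : s - x ∈ m := by
      have h1 : s - x = (s - (algebraMap k T a + t)) + t - (x - algebraMap k T a) := by ring
      rw [h1]
      exact sub_mem (add_mem (Ideal.pow_le_self two_ne_zero hc) ht) ha
    have hmd : D k T s - ω ∈ mΩ := by
      have h1 : D k T s - ω = D k T (s - (algebraMap k T a + t)) - (ω - D k T t) := by simp
      rw [h1]
      exact sub_mem (hD2 _ hc) hω
    refine Submodule.mem_sup.2 ⟨_, hsS, _, neg_mem (add_mem (hinl _ hms) (hinr _ hmd)), ?_⟩
    simp
  let π := S.mkQ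
  have hle : (⊤ : Submodule T ((T × Ω[T⁄k]) ⧸ S)) ≤ m • ⊤ := by
    rintro z -
    obtain ⟨v, rfl⟩ := S.mkQ_surjective z
    obtain ⟨y, hy, w, hw, rfl⟩ := Submodule.mem_sup.1 (hgen v)
    rw [map_add, show S.mkQ y = 0 from (Submodule.Quotient.mk_eq_zero S).2 hy, zero_add]
    have := Submodule.mem_map_of_mem (f := π) hw
    rw [Submodule.map_smul'', Submodule.map_top, Submodule.range_mkQ] at this
    exact this
  haveI : Module.Finite T ((T × Ω[T⁄k]) ⧸ S) := inferInstance
  obtain ⟨a, ha1, ha⟩ := Submodule.exists_sub_one_mem_and_smul_eq_zero_of_fg_of_le_smul m ⊤ Module.Finite.fg_top hle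
  have haA : a ∈ Ann := Submodule.mem_colon.2 fun x _ => (Submodule.Quotient.mk_eq_zero S).1 (by
    rw [Submodule.Quotient.mk_smul]
    exact ha _ trivial)
  exact hm.ne_top ((Ideal.eq_top_iff_one m).2 (by simpa using sub_mem (hAm haA) ha1))

theorem exists_smooth_member_jet [IsAlgClosed k] [Algebra.IsStandardSmooth k T] {n : ℕ} (σ : Fin (n + 1) → T)
    (hj : ∀ m : Ideal T, m.IsMaximal → ∀ t : T, ∃ c : Fin (n + 1) → k, ∑ i, algebraMap k T (c i) * σ i - t ∈ m ^ 2) :
    ∃ g : MvPolynomial (Fin (n + 1)) k, g ≠ 0 ∧ ∀ c : Fin (n + 1) → k, MvPolynomial.eval c g ≠ 0 →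
      Algebra.Smooth k (T ⧸ Ideal.span {∑ i, algebraMap k T (c i) * σ i}) :=
  exists_smooth_member σ fun _ b => exists_mem_of_jet b σ (span_jets_eq_top σ hj)

theorem exists_smooth_member_gen [CharZero k] [Algebra.IsStandardSmooth k T] {N : ℕ} (σ : Fin N → T)
    (hgen : Ideal.span (Set.range σ) = ⊤) :
    ∃ g : MvPolynomial (Fin N) k, g ≠ 0 ∧ ∀ c : Fin N → k, MvPolynomial.eval c g ≠ 0 →
      Algebra.Smooth k (T ⧸ Ideal.span {∑ i, algebraMap k T (c i) * σ i}) :=
  exists_smooth_member σ fun _ b => exists_mem_of_gen b σ hgen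

end Groth.Agent.BertiniLib
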