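import Groth.Agent.BertiniAff.Main
import Mathlib.RingTheory.Smooth.Field
import Mathlib.RingTheory.Kaehler.JacobiZariski
/-!
Bertini for linear systems on smooth affine varieties: the general member is transversal.
-/

set_option autoImplicit false
set_option maxHeartbeats 1000000
set_option backward.isDefEq.respectTransparency false
set_option linter.style.haveILetI false
universe u
open TensorProduct KaehlerDifferential Module MvPolynomial

namespace Groth.Agent.BertiniLib

variable {k : Type u} [Field k] {T : Type u} [CommRing T] [Algebra k T] {N r : ℕ}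

theorem trdeg_le [Algebra.IsStandardSmooth k T] (b : Basis (Fin r) T Ω[T⁄k]) (P : Ideal T) (hP : P.IsPrime) :
    Algebra.trdeg k (T ⧸ P) ≤ (r : Cardinal) := by
  obtain ⟨p₀, hp₀, hle⟩ := Ideal.exists_minimalPrimes_le (I := (⊥ : Ideal T)) (J := P) bot_le
  rw [← BertiniAff.trdeg_minimal k b p₀ hp₀]
  exact trdeg_le_of_surjective (R := k) (Ideal.Quotient.factorₐ k hle) (Ideal.Quotient.factor_surjective hle)

/-- The incidence equations of the family `Σ cᵢ σᵢ`. -/
noncomputable def eqns (b : Basis (Fin r) T Ω[T⁄k]) (σ : Fin N → T) : Fin (r + 1) → MvPolynomial (Fin N) T :=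
  Fin.cases (∑ i, MvPolynomial.C (σ i) * MvPolynomial.X i)
    (fun l => ∑ i, MvPolynomial.C (b.repr (D k T (σ i)) l) * MvPolynomial.X i)

/-- Off the zero set of a polynomial in the incidence ideal the member is transversal. -/
theorem transversal_of_mem (b : Basis (Fin r) T Ω[T⁄k]) (σ : Fin N → T) (g : MvPolynomial (Fin N) k)
    (hg : MvPolynomial.map (algebraMap k T) g ∈ Ideal.span (Set.range (eqns b σ)))
    (c : Fin N → k) (hc : MvPolynomial.eval c g ≠ 0) (Q : Ideal T) (hQ : Q.IsPrime)
    (hs : ∑ i, algebraMap k T (c i) * σ i ∈ Q) :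
    ∃ l, b.repr (D k T (∑ i, algebraMap k T (c i) * σ i)) l ∉ Q := by
  classical
  by_contra hcon
  push Not at hcon
  let ev : MvPolynomial (Fin N) T →+* T := MvPolynomial.eval₂Hom (RingHom.id T) fun i => algebraMap k T (c i)
  have hle : Ideal.span (Set.range (eqns b σ)) ≤ Q.comap ev := by
    refine Ideal.span_le.2 ?_
    rintro _ ⟨l, rfl⟩
    show ev (eqns b σ l) ∈ Q
    cases l using Fin.cases with
    | zero => simpa [ev, eqns, mul_comm] using hs
    | succ l =>
      have e : ev (eqns b σ l.succ) = b.repr (D k T (∑ i, algebraMap k T (c i) * σ i)) l := by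
        simp only [ev, eqns, Fin.cases_succ, map_sum, map_mul, MvPolynomial.eval₂Hom_C, RingHom.id_apply,
          MvPolynomial.eval₂Hom_X', ← Algebra.smul_def, Derivation.map_smul, Finsupp.coe_finsetSum, Finset.sum_apply]
        refine Finset.sum_congr rfl fun i _ => ?_
        rw [← algebraMap_smul T (c i) (D k T (σ i)), map_smul, Finsupp.smul_apply, smul_eq_mul, mul_comm]
      rw [e]
      exact hcon l
  have hmem : ev (MvPolynomial.map (algebraMap k T) g) ∈ Q := hle hg
  have he : ev (MvPolynomial.map (algebraMap k T) g) = algebraMap k T (MvPolynomial.eval c g) := by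
    have : ev.comp (MvPolynomial.map (algebraMap k T)) = (algebraMap k T).comp (MvPolynomial.eval c) :=
      MvPolynomial.ringHom_ext (fun a => by simp [ev]) (fun i => by simp [ev])
    exact RingHom.congr_fun this g
  rw [he] at hmem
  exact hQ.ne_top (Ideal.eq_top_of_isUnit_mem _ hmem ((IsUnit.mk0 _ hc).map _))

/-- If no prime avoiding the constant polynomials contains the equations, some constant polynomial lies in their ideal. -/
theorem exists_mem_of_false (J : Ideal (MvPolynomial (Fin N) T))
    (H : ∀ 𝔓 : Ideal (MvPolynomial (Fin N) T), 𝔓.IsPrime → J ≤ 𝔓 →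
      (∀ g : MvPolynomial (Fin N) k, MvPolynomial.map (algebraMap k T) g ∈ 𝔓 → g = 0) → False) :
    ∃ g : MvPolynomial (Fin N) k, g ≠ 0 ∧ MvPolynomial.map (algebraMap k T) g ∈ J := by
  classical
  by_contra hcon
  let Sm : Submonoid (MvPolynomial (Fin N) T) :=
    (nonZeroDivisors (MvPolynomial (Fin N) k)).map (MvPolynomial.map (algebraMap k T) : _ →+* _)
  have hd : Disjoint (J : Set (MvPolynomial (Fin N) T)) (Sm : Set (MvPolynomial (Fin N) T)) :=
    Set.disjoint_left.2 fun z hz hz' => by
      obtain ⟨g, hg, rfl⟩ := hz'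
      exact hcon ⟨g, nonZeroDivisors.ne_zero hg, hz⟩
  obtain ⟨𝔔, h𝔔, hle, h𝔔d⟩ := Ideal.exists_le_prime_disjoint J Sm hd
  exact H 𝔔 h𝔔 hle fun g hg => by_contra fun hg0 =>
    Set.disjoint_left.1 h𝔔d hg ⟨g, mem_nonZeroDivisors_of_ne_zero hg0, rfl⟩

variable (b : Basis (Fin r) T Ω[T⁄k])

theorem aa_gen (𝔓 : Ideal (MvPolynomial (Fin N) T)) :
    Algebra.adjoin (T ⧸ 𝔓.under T) (Set.range fun i => Ideal.Quotient.mk 𝔓 (MvPolynomial.X i)) = ⊤ := by
  rw [eq_top_iff]
  rintro z -
  obtain ⟨p, rfl⟩ := Ideal.Quotient.mk_surjective z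
  induction p using MvPolynomial.induction_on with
  | C c => exact Subalgebra.algebraMap_mem _ (Ideal.Quotient.mk (𝔓.under T) c)
  | add p q hp hq => rw [map_add]; exact add_mem hp hq
  | mul_X p i hp => rw [map_mul]; exact mul_mem hp (Algebra.subset_adjoin ⟨i, rfl⟩)

/-- Jet-spanning systems. -/
theorem exists_mem_of_jet [Algebra.IsStandardSmooth k T] {n : ℕ} (σ : Fin (n + 1) → T)
    (hspan : Submodule.span T (Set.range fun i => (σ i, D k T (σ i))) = ⊤) :
    ∃ g : MvPolynomial (Fin (n + 1)) k, g ≠ 0 ∧ MvPolynomial.map (algebraMap k T) g ∈ Ideal.span (Set.range (eqns b σ)) := by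
  classical
  refine exists_mem_of_false _ fun 𝔓 _ hJ h0 => ?_
  haveI : (𝔓.under T).IsPrime := Ideal.IsPrime.comap _
  let B := T ⧸ 𝔓.under T
  let E := MvPolynomial (Fin (n + 1)) T ⧸ 𝔓
  let w : Fin (r + 1) → Fin (n + 1) → T := Fin.cases σ (fun l i => b.repr (D k T (σ i)) l)
  let M : Matrix (Fin (r + 1)) (Fin (n + 1)) B := fun l i => Ideal.Quotient.mk (𝔓.under T) (w l i)
  have heq : ∀ l, ∑ i, algebraMap B E (M l i) * Ideal.Quotient.mk 𝔓 (MvPolynomial.X i) = 0 := by
    intro l
    have hmem : eqns b σ l ∈ 𝔓 := hJ (Ideal.subset_span ⟨l, rfl⟩)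
    have e : eqns b σ l = ∑ i, MvPolynomial.C (w l i) * MvPolynomial.X i := by
      cases l using Fin.cases <;> simp [eqns, w]
    rw [e] at hmem
    have := Ideal.Quotient.eq_zero_iff_mem.2 hmem
    rw [map_sum] at this
    refine Eq.trans (Finset.sum_congr rfl fun i _ => ?_) this
    rw [map_mul]
    rfl
  have hfull : Submodule.span (FractionRing B) (Set.range fun i l => algebraMap B (FractionRing B) (M l i)) = ⊤ := by
    let Kf := FractionRing B
    let ev : T →+* Kf := (algebraMap B Kf).comp (Ideal.Quotient.mk (𝔓.under T))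
    let S := Submodule.span Kf (Set.range fun i l => algebraMap B Kf (M l i))
    have key : ∀ v : T × Ω[T⁄k], (Fin.cons (ev v.1) (fun l => ev (b.repr v.2 l)) : Fin (r + 1) → Kf) ∈ S := by
      intro v
      have hv : v ∈ Submodule.span T (Set.range fun i => (σ i, D k T (σ i))) := hspan ▸ Submodule.mem_top
      induction hv using Submodule.span_induction with
      | mem y hy =>
        obtain ⟨i, rfl⟩ := hy
        refine Submodule.subset_span ⟨i, ?_⟩
        funext l
        cases l using Fin.cases <;> simp [M, w, ev] <;> rfl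
      | zero => convert S.zero_mem using 1; funext l; cases l using Fin.cases <;> simp
      | add y z _ _ hy hz =>
        convert add_mem hy hz using 1
        funext l; cases l using Fin.cases <;> simp
      | smul c y _ hy =>
        convert Submodule.smul_mem S (ev c) hy using 1
        funext l; cases l using Fin.cases <;> simp
    rw [eq_top_iff, ← (Pi.basisFun Kf (Fin (r + 1))).span_eq, Submodule.span_le]
    rintro _ ⟨l, rfl⟩
    rw [Pi.basisFun_apply]
    cases l using Fin.cases with
    | zero =>
      show Pi.single 0 1 ∈ S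
      convert key (1, 0) using 1
      funext l'
      cases l' using Fin.cases <;> simp [ev]
    | succ l =>
      show Pi.single l.succ 1 ∈ S
      convert key (0, b l) using 1
      funext l'
      cases l' using Fin.cases <;> simp [ev, Finsupp.single_apply, Pi.single_apply, eq_comm]
  have hlow : ((n + 1 : ℕ) : Cardinal) ≤ Algebra.trdeg k E := by
    let χ : MvPolynomial (Fin (n + 1)) k →ₐ[k] E := (Ideal.Quotient.mkₐ k 𝔓).comp (MvPolynomial.mapAlgHom (Algebra.ofId k T))
    have hχ : Function.Injective χ := (injective_iff_map_eq_zero _).2 fun g hg =>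
      h0 g (Ideal.Quotient.eq_zero_iff_mem.1 hg)
    simpa using trdeg_le_of_injective χ hχ
  exact BertiniAff.absurd_of_equations k (trdeg_le b (𝔓.under T) inferInstance)
    (FaithfulSMul.algebraMap_injective B E) _ (aa_gen 𝔓) M heq hfull hlow

/-- In a field of characteristic zero algebraically independent elements have independent differentials. -/
theorem linearIndependent_D_of_injective [CharZero k] (P F : Type u) [CommRing P] [IsDomain P] [Algebra k P]
    [Field F] [Algebra k F] [Algebra P F] [IsScalarTower k P F] [Algebra.EssFiniteType k F]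
    (hinj : Function.Injective (algebraMap P F)) {ι : Type u} (bP : Basis ι P Ω[P⁄k]) (x : ι → P)
    (hx : ∀ i, bP i = D k P (x i)) :
    LinearIndependent F fun i => D k F (algebraMap P F (x i)) := by
  haveI : FaithfulSMul P F := (faithfulSMul_iff_algebraMap_injective P F).2 hinj
  let K := FractionRing P
  letI : Algebra K F := FractionRing.liftAlgebra P F
  haveI : IsScalarTower P K F := FractionRing.isScalarTower_liftAlgebra P F
  haveI : IsScalarTower k K F := IsScalarTower.of_algebraMap_eq fun c => by
    rw [IsScalarTower.algebraMap_apply k P K, ← IsScalarTower.algebraMap_apply P K F, ← IsScalarTower.algebraMap_apply k P F]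
  haveI : Algebra.EssFiniteType K F := Algebra.EssFiniteType.of_comp k K F
  haveI : CharZero K := charZero_of_injective_algebraMap (R := k) (algebraMap k K).injective
  haveI : Algebra.FormallySmooth P K := Algebra.FormallySmooth.of_isLocalization (nonZeroDivisors P)
  haveI : Algebra.FormallySmooth P F := Algebra.FormallySmooth.comp P K F
  have hmb : Function.Injective (mapBaseChange k P F) := (injective_iff_map_eq_zero _).2 fun z hz => by
    obtain ⟨y, rfl⟩ := (Algebra.H1Cotangent.exact_δ_mapBaseChange k P F z).1 hz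
    rw [Subsingleton.elim y 0, map_zero]
  have h := (bP.baseChange F).linearIndependent.map' (mapBaseChange k P F) (LinearMap.ker_eq_bot.2 hmb)
  have e : (fun i => D k F (algebraMap P F (x i))) = ⇑(mapBaseChange k P F) ∘ ⇑(bP.baseChange F) := by
    funext i
    simp [hx, Basis.baseChange_apply]
  rw [e]
  exact h

theorem gen_absurd [CharZero k] {F : Type u} [Field F] [Algebra k F] [Algebra T F] [IsScalarTower k T F]
    [Algebra.EssFiniteType k F] (σ : Fin N → T) (hgen : Ideal.span (Set.range σ) = ⊤) (u : Fin N → F)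
    (hu : AlgebraicIndependent k u) (h0 : ∑ i, algebraMap T F (σ i) * u i = 0)
    (hl : ∀ l : Fin r, ∑ i, algebraMap T F (b.repr (D k T (σ i)) l) * u i = 0) : False := by
  classical
  let P := MvPolynomial (ULift.{u} (Fin N)) k
  let χ : P →ₐ[k] F := MvPolynomial.aeval fun i => u i.down
  letI : Algebra P F := χ.toRingHom.toAlgebra
  haveI : IsScalarTower k P F := IsScalarTower.of_algHom χ
  have hinj : Function.Injective (algebraMap P F) := hu.comp ULift.down ULift.down_injective
  have hli := linearIndependent_D_of_injective P F hinj (KaehlerDifferential.mvPolynomialBasis k (ULift.{u} (Fin N)))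
    MvPolynomial.X (fun i => KaehlerDifferential.mvPolynomialBasis_apply k _ i)
  have hsum : ∑ i, u i • D k F (algebraMap T F (σ i)) = 0 := by
    have e : ∀ i, D k F (algebraMap T F (σ i)) =
        ∑ l, algebraMap T F (b.repr (D k T (σ i)) l) • KaehlerDifferential.map k k T F (b l) := fun i => by
      rw [← KaehlerDifferential.map_D k k T F (σ i)]
      conv_lhs => rw [← b.sum_repr (D k T (σ i)), map_sum]
      simp
    simp only [e, Finset.smul_sum, smul_smul]
    rw [Finset.sum_comm]
    refine Finset.sum_eq_zero fun l _ => ?_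
    rw [← Finset.sum_smul]
    simp only [mul_comm (u _)]
    rw [hl l, zero_smul]
  have hD := congrArg (D k F) h0
  simp only [map_sum, Derivation.leibniz, Finset.sum_add_distrib, map_zero, hsum, add_zero] at hD
  have hli' : LinearIndependent F fun i : Fin N => D k F (u i) := by
    have h := hli.comp ULift.up ULift.up_injective
    have e : (fun i : Fin N => D k F (u i)) =
        (fun i => D k F (algebraMap P F (MvPolynomial.X i))) ∘ ULift.up := by
      funext i
      show D k F (u i) = D k F (χ (MvPolynomial.X ⟨i⟩))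
      rw [MvPolynomial.aeval_X]
    rw [e]
    exact h
  have hσ : ∀ i, algebraMap T F (σ i) = 0 := fun i => Fintype.linearIndependent_iff.1 hli' _ hD i
  have hle : Ideal.span (Set.range σ) ≤ RingHom.ker (algebraMap T F) := Ideal.span_le.2 (by
    rintro _ ⟨i, rfl⟩
    exact hσ i)
  rw [hgen] at hle
  exact one_ne_zero (α := F) (by simpa using hle (Submodule.mem_top (x := (1 : T))))

theorem gen_absurd_domain [CharZero k] {E : Type u} [CommRing E] [IsDomain E] [Algebra k E] [Algebra T E]
    [IsScalarTower k T E] [Algebra.FiniteType k E] (σ : Fin N → T) (hgen : Ideal.span (Set.range σ) = ⊤) (x : Fin N → E)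
    (hx : AlgebraicIndependent k x) (h0 : ∑ i, algebraMap T E (σ i) * x i = 0)
    (hl : ∀ l : Fin r, ∑ i, algebraMap T E (b.repr (D k T (σ i)) l) * x i = 0) : False := by
  haveI : Algebra.EssFiniteType k (FractionRing E) := Algebra.EssFiniteType.comp k E _
  have key : ∀ w : Fin N → T, ∑ i, algebraMap T E (w i) * x i = 0 →
      ∑ i, algebraMap T (FractionRing E) (w i) * algebraMap E (FractionRing E) (x i) = 0 := fun w hw => by
    have h := congrArg (algebraMap E (FractionRing E)) hw
    simpa [map_sum, map_mul, ← IsScalarTower.algebraMap_apply] using h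
  exact gen_absurd (F := FractionRing E) b σ hgen _
    (hx.map' (f := IsScalarTower.toAlgHom k E (FractionRing E)) (IsFractionRing.injective E _))
    (key σ h0) (fun l => key _ (hl l))

/-- Generating systems in characteristic zero. -/
theorem exists_mem_of_gen [CharZero k] [Algebra.IsStandardSmooth k T] (σ : Fin N → T)
    (hgen : Ideal.span (Set.range σ) = ⊤) :
    ∃ g : MvPolynomial (Fin N) k, g ≠ 0 ∧ MvPolynomial.map (algebraMap k T) g ∈ Ideal.span (Set.range (eqns b σ)) := by
  classical
  refine exists_mem_of_false _ fun 𝔓 _ hJ h0 => ?_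
  have hz : ∀ (l : Fin (r + 1)) (w : Fin N → T), eqns b σ l = ∑ i, MvPolynomial.C (w i) * MvPolynomial.X i →
      ∑ i, algebraMap T (MvPolynomial (Fin N) T ⧸ 𝔓) (w i) * Ideal.Quotient.mk 𝔓 (MvPolynomial.X i) = 0 := fun l w e => by
    have hmem : eqns b σ l ∈ 𝔓 := hJ (Ideal.subset_span ⟨l, rfl⟩)
    rw [e] at hmem
    have h := Ideal.Quotient.eq_zero_iff_mem.2 hmem
    rw [map_sum] at h
    refine Eq.trans (Finset.sum_congr rfl fun i _ => ?_) h
    rw [map_mul]
    rfl
  have hx : AlgebraicIndependent k fun i => Ideal.Quotient.mk 𝔓 (MvPolynomial.X i) := by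
    have hinj : Function.Injective ((Ideal.Quotient.mkₐ k 𝔓).comp (MvPolynomial.mapAlgHom (Algebra.ofId k T))) :=
      (injective_iff_map_eq_zero _).2 fun g hg => h0 g (Ideal.Quotient.eq_zero_iff_mem.1 hg)
    rw [MvPolynomial.aeval_unique ((Ideal.Quotient.mkₐ k 𝔓).comp (MvPolynomial.mapAlgHom (Algebra.ofId k T)))] at hinj
    convert hinj using 1
    simp [AlgebraicIndependent, Function.comp_def]
  exact gen_absurd_domain b σ hgen _ hx (hz 0 σ (by simp [eqns]))
    (fun l => hz l.succ (fun i => b.repr (D k T (σ i)) l) (by simp [eqns]))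

theorem eval_aeval' {σ τ : Type*} (f : σ → MvPolynomial τ k) (c : τ → k) (h : MvPolynomial σ k) :
    MvPolynomial.eval c (MvPolynomial.aeval f h) = MvPolynomial.eval (fun i => MvPolynomial.eval c (f i)) h := by
  induction h using MvPolynomial.induction_on with
  | C a => simp
  | add p q hp hq => simp only [map_add, hp, hq]
  | mul_X p i hp => simp only [map_mul, hp, MvPolynomial.aeval_X, MvPolynomial.eval_X]

/-- Polynomials with values nonvanishing on a cone give polynomials on an affine slice. -/
theorem exists_dehom [Infinite k] {m : ℕ} (g : MvPolynomial (Fin (m + 1)) k) (hg : g ≠ 0)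
    (Bad : (Fin (m + 1) → k) → Prop) (hbad : ∀ c, Bad c → MvPolynomial.eval c g = 0)
    (hcone : ∀ (c : Fin (m + 1) → k) (a : k), a ≠ 0 → Bad c → Bad (a • c)) :
    ∃ q : MvPolynomial (Fin m) k, q ≠ 0 ∧ ∀ c : Fin m → k, MvPolynomial.eval c q ≠ 0 → ¬ Bad (Fin.cons 1 c) := by
  classical
  obtain ⟨d, hd⟩ : ∃ d, MvPolynomial.homogeneousComponent d g ≠ 0 := by
    by_contra h
    push Not at h
    exact hg (by rw [← MvPolynomial.sum_homogeneousComponent g]; exact Finset.sum_eq_zero fun i _ => h i)
  let h := MvPolynomial.homogeneousComponent d g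
  have hhom : h.IsHomogeneous d := MvPolynomial.homogeneousComponent_isHomogeneous d g
  have hval : ∀ c, Bad c → MvPolynomial.eval c h = 0 := by
    intro c hc
    let p : Polynomial k := ∑ j ∈ Finset.range (g.totalDegree + 1),
      Polynomial.C (MvPolynomial.eval c (MvPolynomial.homogeneousComponent j g)) * Polynomial.X ^ j
    have hp : p = 0 := by
      refine Polynomial.eq_zero_of_infinite_isRoot p (((Set.finite_singleton (0 : k)).infinite_compl).mono fun a ha => ?_)
      show p.eval a = 0
      rw [← hbad _ (hcone c a ha hc)]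
      conv_rhs => rw [← MvPolynomial.sum_homogeneousComponent g]
      rw [map_sum, Polynomial.eval_finsetSum]
      refine Finset.sum_congr rfl fun j _ => ?_
      rw [MvPolynomial.eval_eq, MvPolynomial.eval_eq, Polynomial.eval_mul, Polynomial.eval_C, Polynomial.eval_pow,
        Polynomial.eval_X, Finset.sum_mul]
      refine Finset.sum_congr rfl fun e he => ?_
      have hej := (MvPolynomial.homogeneousComponent_isHomogeneous j g) (MvPolynomial.mem_support_iff.1 he)
      simp only [Pi.smul_apply, smul_eq_mul, mul_pow, Finset.prod_mul_distrib, Finset.prod_pow_eq_pow_sum]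
      rw [show (∑ i ∈ e.support, e i) = j by
        rw [← hej, Finsupp.weight_apply]
        simp [Finsupp.sum]]
      ring
    have hc' := congrArg (fun p => Polynomial.coeff p d) hp
    simp only [p, Polynomial.finsetSum_coeff, Polynomial.coeff_C_mul, Polynomial.coeff_X_pow, mul_ite, mul_one, mul_zero,
      Finset.sum_ite_eq, Polynomial.coeff_zero] at hc'
    by_cases hdr : d ∈ Finset.range (g.totalDegree + 1)
    · rw [if_pos hdr] at hc'
      exact hc'
    · exact absurd (MvPolynomial.homogeneousComponent_eq_zero d g (by simp at hdr; omega)) hd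
  let f : Fin (m + 1) → MvPolynomial (Fin m) k := Fin.cons 1 MvPolynomial.X
  refine ⟨MvPolynomial.aeval f h, fun h0 => hd ?_, fun c hc hb => hc ?_⟩
  · refine MvPolynomial.funext fun x => ?_
    rw [map_zero]
    have hfin : ∀ x : Fin (m + 1) → k, x 0 ≠ 0 → MvPolynomial.eval x h = 0 := fun x hx => by
      have hs : x = x 0 • (Fin.cons 1 fun i => (x 0)⁻¹ * x i.succ : Fin (m + 1) → k) := by
        funext i
        cases i using Fin.cases <;> simp [mul_inv_cancel_left₀ hx]
      rw [hs, MvPolynomial.eval_eq]
      have h1 := congrArg (MvPolynomial.eval fun i => (x 0)⁻¹ * x i.succ) h0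
      rw [map_zero] at h1
      have h2 : MvPolynomial.eval (Fin.cons 1 fun i => (x 0)⁻¹ * x i.succ : Fin (m + 1) → k) h = 0 := by
        rw [← h1, eval_aeval']
        refine congrArg (fun v => MvPolynomial.eval v h) ?_
        funext i
        cases i using Fin.cases <;> simp [f]
      rw [MvPolynomial.eval_eq] at h2
      rw [← mul_zero ((x 0) ^ d), ← h2, Finset.mul_sum]
      refine Finset.sum_congr rfl fun e he => ?_
      have hej := hhom (MvPolynomial.mem_support_iff.1 he)
      simp only [Pi.smul_apply, smul_eq_mul, mul_pow, Finset.prod_mul_distrib, Finset.prod_pow_eq_pow_sum]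
      rw [show (∑ i ∈ e.support, e i) = d by
        rw [← hej, Finsupp.weight_apply]
        simp [Finsupp.sum]]
      ring
    by_cases hx : x 0 = 0
    · have h3 : MvPolynomial.X 0 * h = 0 := MvPolynomial.funext fun y => by
        rw [map_zero, map_mul, MvPolynomial.eval_X]
        by_cases hy : y 0 = 0
        · rw [hy, zero_mul]
        · rw [hfin y hy, mul_zero]
      show MvPolynomial.eval x h = 0
      rw [(mul_eq_zero.1 h3).resolve_left (MvPolynomial.X_ne_zero 0), map_zero]
    · exact hfin x hx
  · rw [eval_aeval', ← hval _ hb]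
    refine congrArg (fun v => MvPolynomial.eval v h) ?_
    funext i
    cases i using Fin.cases <;> simp [f]

end Groth.Agent.BertiniLib
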