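import Groth.Agent.BertiniLib.Affine
import Groth.Agent.ZeroSchemeLib.Basic
import Groth.Agent.VBLib.Point
import Groth.Prelude.Def_Formal
/-!
Bertini for linear systems on smooth schemes over a field.
-/

set_option autoImplicit false
set_option maxHeartbeats 1000000
set_option backward.isDefEq.respectTransparency false
set_option linter.style.haveILetI false
universe u

open CategoryTheory CategoryTheory.Limits AlgebraicGeometry TopologicalSpace Opposite
open Groth.Agent.ParaFLib Groth.Agent.AmpleLib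

noncomputable section

namespace Groth.Agent.BertiniLib

variable (k : Type u) [Field k] {Y : Scheme.{u}} [Y.Over (Spec (CommRingCat.of k))] {L : Y.Modules}

/-- The structure map of the functions on an open. -/
def α (W : Y.Opens) : k →+* Γ(Y, W) :=
  (Y.presheaf.map (homOfLE (le_top : W ≤ ⊤)).op).hom.comp
    ((Y ↘ Spec (CommRingCat.of k)).appTop.hom.comp (Scheme.ΓSpecIso (CommRingCat.of k)).inv.hom)

theorem α_res {V W : Y.Opens} (h : W ≤ V) (a : k) : Y.presheaf.map (homOfLE h).op (α k V a) = α k W a := by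
  simp only [α, RingHom.comp_apply]
  rw [← ConcreteCategory.comp_apply, ← Functor.map_comp]
  rfl

theorem α_top (a : k) : α k (⊤ : Y.Opens) a = Coh.toGlobal (Y ↘ Spec (CommRingCat.of k)) a :=
  ConcreteCategory.congr_hom (Y.presheaf.map_id _) _

theorem sec_add (s t : Coh.structureModule Y ⟶ L) : sec (s + t) = sec s + sec t := rfl

theorem sec_sum {ι : Type*} (S : Finset ι) (s : ι → (Coh.structureModule Y ⟶ L)) :
    sec (∑ i ∈ S, s i) = ∑ i ∈ S, sec (s i) :=
  map_sum (AddMonoidHom.mk' (fun t : Coh.structureModule Y ⟶ L => sec t) sec_add) _ _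

theorem sec_smulMod (a : k) (s : Coh.structureModule Y ⟶ L) :
    sec (Formal.smulMod k (Coh.structureModule Y) a ≫ s) = α k (⊤ : Y.Opens) a • sec s := by
  rw [α_top]
  show s.app ⊤ ((Formal.smulMod k (Coh.structureModule Y) a).app ⊤ (1 : Γ(Y, ⊤))) = _
  refine Eq.trans ?_ (Scheme.Modules.Hom.app_smul s _ (1 : Γ(Y, ⊤)))
  refine congrArg (s.app ⊤) ?_
  exact congrArg (fun r : Γ(Y, ⊤) => r * (1 : Γ(Y, ⊤))) (ConcreteCategory.congr_hom (Y.presheaf.map_id _) _)

theorem resT_α_smul (W : Y.Opens) (a : k) (v : Γ(L, ⊤)) :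
    resT (α k (⊤ : Y.Opens) a • v) (O := W) = α k W a • resT v (O := W) := by
  rw [resT, ClSubLib.res_smul', α_res]

theorem resT_combine {N : ℕ} (W : Y.Opens) (e : Γ(L, W)) (τ : Fin N → Γ(L, ⊤)) (σ : Fin N → Γ(Y, W))
    (hσ : ∀ i, σ i • e = resT (τ i) (O := W)) (c : Fin N → k) :
    (∑ i, α k W (c i) * σ i) • e = resT (∑ i, α k (⊤ : Y.Opens) (c i) • τ i) (O := W) := by
  rw [resT, map_sum, Finset.sum_smul]
  refine Finset.sum_congr rfl fun i _ => ?_
  rw [mul_smul, hσ]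
  exact (resT_α_smul k W (c i) (τ i)).symm

theorem exists_chart [Smooth (Y ↘ Spec (CommRingCat.of k))] (hL : PicF.IsInvertible L) (x : Y) :
    ∃ W : Y.affineOpens, x ∈ W.1 ∧ (∃ e : Γ(L, W.1), Gen W.1 e) ∧ (α k W.1).IsStandardSmooth := by
  let q := Y ↘ Spec (CommRingCat.of k)
  obtain ⟨U, _, V, hV, hxV, hle, hstd⟩ := Smooth.exists_isStandardSmooth q x
  obtain rfl : U = ⊤ := eq_top_iff.2 fun y _ => by
    haveI : Subsingleton (Spec (CommRingCat.of k)) := inferInstanceAs (Subsingleton (PrimeSpectrum k))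
    exact Subsingleton.elim (q x) y ▸ hle hxV
  have hαV : (α k V).IsStandardSmooth := by
    have h := RingHom.isStandardSmooth_respectsIso.2 (q.appLE ⊤ V hle).hom
      (Scheme.ΓSpecIso (CommRingCat.of k)).symm.commRingCatIsoToRingEquiv hstd
    exact h
  obtain ⟨W₀, e, hxW₀, he⟩ := exists_gen_nhd hL x
  obtain ⟨g, hgle, hxg⟩ := hV.exists_basicOpen_le ⟨x, hxW₀⟩ hxV
  refine ⟨⟨Y.basicOpen g, hV.basicOpen g⟩, hxg, ⟨_, he.res hgle⟩, ?_⟩
  have hres : (Y.presheaf.map (homOfLE (Y.basicOpen_le g)).op).hom.IsStandardSmooth := by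
    letI := (Y.presheaf.map (homOfLE (Y.basicOpen_le g)).op).hom.toAlgebra
    haveI : IsLocalization.Away g Γ(Y, Y.basicOpen g) := hV.isLocalization_basicOpen g
    exact RingHom.isStandardSmooth_algebraMap.2 (Algebra.IsStandardSmooth.localization_away g)
  have e2 : α k (Y.basicOpen g) = (Y.presheaf.map (homOfLE (Y.basicOpen_le g)).op).hom.comp (α k V) :=
    RingHom.ext fun a => (α_res k (Y.basicOpen_le g) a).symm
  rw [show (⟨Y.basicOpen g, hV.basicOpen g⟩ : Y.affineOpens).1 = Y.basicOpen g from rfl, e2]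
  exact hres.comp hαV

/-- Smoothness of a zero scheme is checked on charts. -/
theorem smooth_of_charts (hL : PicF.IsInvertible L) (s : Coh.structureModule Y ⟶ L) {ι : Type u}
    (W : ι → Y.affineOpens) (hW : ∀ x : Y, ∃ i, x ∈ (W i).1) (e : ∀ i, Γ(L, (W i).1)) (he : ∀ i, Gen (W i).1 (e i))
    (a : ∀ i, Γ(Y, (W i).1)) (ha : ∀ i, a i • e i = resT (sec s) (O := (W i).1))
    (h : ∀ i, ((Ideal.Quotient.mk (Ideal.span {a i})).comp (α k (W i).1)).Smooth) :
    Smooth ((PicF2.zeroScheme L s).subschemeι ≫ (Y ↘ Spec (CommRingCat.of k))) := by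
  let q := Y ↘ Spec (CommRingCat.of k)
  let I := PicF2.zeroScheme L s
  choose idx hidx using hW
  let 𝒰 : I.subscheme.AffineOpenCover :=
    { I₀ := ι
      X := fun i => .of (Γ(Y, (W i).1) ⧸ I.ideal (W i))
      f := fun i => I.subschemeCover.f (W i)
      idx := fun x => idx (I.subschemeι x)
      covers := fun x => (I.opensRange_subschemeCover_map _).ge (hidx (I.subschemeι x)) }
  refine (IsZariskiLocalAtSource.iff_of_openCover 𝒰.openCover).2 fun i => ?_
  show Smooth (I.subschemeCover.f (W i) ≫ I.subschemeι ≫ q)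
  have e1 : I.subschemeCover.f (W i) ≫ I.subschemeι ≫ q =
      Spec.map (CommRingCat.ofHom ((Ideal.Quotient.mk (I.ideal (W i))).comp (α k (W i).1))) := by
    rw [← Category.assoc, I.subschemeCover_map_subschemeι, I.glueDataObjι_ι, Category.assoc,
      ← IsAffineOpen.SpecMap_appLE_fromSpec q (isAffineOpen_top _) (W i).2 (le_top),
      IsAffineOpen.fromSpec_top, Scheme.isoSpec_Spec_inv, ← Spec.map_comp, ← Spec.map_comp]
    rfl
  rw [e1, HasRingHomProperty.Spec_iff (P := @Smooth), CommRingCat.hom_ofHom]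
  have e2 : I.ideal (W i) = Ideal.span {a i} := by
    rw [ZeroSchemeLib.zeroScheme_ideal hL, ZeroSchemeLib.colonIdeal_of_gen s (he i) (ha i)]
  rw [e2]
  exact h i

/-- A general member of a system with smooth general members on charts is smooth. -/
theorem exists_good [Smooth (Y ↘ Spec (CommRingCat.of k))] [QuasiCompact (Y ↘ Spec (CommRingCat.of k))]
    (hL : PicF.IsInvertible L) {N : ℕ} (τ : Fin N → Γ(L, ⊤))
    (H : ∀ W : Y.affineOpens, (α k W.1).IsStandardSmooth → ∀ e : Γ(L, W.1), Gen W.1 e →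
      ∀ σ : Fin N → Γ(Y, W.1), (∀ i, σ i • e = resT (τ i) (O := W.1)) →
        ∃ g : MvPolynomial (Fin N) k, g ≠ 0 ∧ ∀ c : Fin N → k, MvPolynomial.eval c g ≠ 0 →
          ((Ideal.Quotient.mk (Ideal.span {∑ i, α k W.1 (c i) * σ i})).comp (α k W.1)).Smooth) :
    ∃ g : MvPolynomial (Fin N) k, g ≠ 0 ∧ ∀ c : Fin N → k, MvPolynomial.eval c g ≠ 0 →
      ∀ s : Coh.structureModule Y ⟶ L, sec s = ∑ i, α k (⊤ : Y.Opens) (c i) • τ i →
        Smooth ((PicF2.zeroScheme L s).subschemeι ≫ (Y ↘ Spec (CommRingCat.of k))) := by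
  classical
  haveI : CompactSpace Y := QuasiCompact.compactSpace_of_compactSpace (Y ↘ Spec (CommRingCat.of k))
  choose W hxW hWe hWs using exists_chart k hL
  choose e he using hWe
  obtain ⟨S, hS⟩ := isCompact_univ.elim_finite_subcover (fun x : Y => ((W x).1 : Set Y)) (fun x => (W x).1.isOpen)
    (fun x _ => Set.mem_iUnion.2 ⟨x, hxW x⟩)
  have hσ : ∀ (x : Y) (i : Fin N), ∃ a : Γ(Y, (W x).1), a • e x = resT (τ i) (O := (W x).1) := fun x i => by
    obtain ⟨a, ha⟩ := (he x (W x).1 le_rfl).2 (resT (τ i) (O := (W x).1))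
    refine ⟨a, ?_⟩
    simpa only [res_self] using ha
  choose σ hσ using hσ
  choose g hg0 hg using fun x : S => H (W x) (hWs x) (e x) (he x) (σ x) (hσ x)
  refine ⟨∏ x, g x, Finset.prod_ne_zero_iff.2 fun x _ => hg0 x, fun c hc s hs => ?_⟩
  rw [map_prod] at hc
  refine smooth_of_charts k hL s (fun x : S => W x) (fun y => ?_) (fun x => e x) (fun x => he x)
    (fun x => ∑ i, α k (W x).1 (c i) * σ x i) (fun x => ?_) fun x => hg x c (Finset.prod_ne_zero_iff.1 hc x (Finset.mem_univ _))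
  · obtain ⟨x, hxS, hy⟩ := Set.mem_iUnion₂.1 (hS (Set.mem_univ y))
    exact ⟨⟨x, hxS⟩, hy⟩
  · rw [hs]
    exact resT_combine k _ (e x) τ (σ x) (hσ x) c

theorem germ_smul_sec {W : Y.Opens} {x : Y} (hx : x ∈ W) (σ : Γ(L, ⊤)) {a : Γ(Y, W)} {e : Γ(L, W)}
    (h : a • e = resT σ (O := W)) :
    L.presheaf.germ ⊤ x trivial σ = Y.presheaf.germ W x hx a • L.presheaf.germ W x hx e := by
  rw [← germ_smul', h, TopCat.Presheaf.germ_res_apply]

/-- Jets at closed points in a chart. -/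
theorem jets_chart [IsAlgClosed k] [LocallyOfFiniteType (Y ↘ Spec (CommRingCat.of k))] {N : ℕ}
    (τ : Fin N → Γ(L, ⊤))
    (hjet : ∀ p : Y, IsClosed ({p} : Set Y) → ∀ l : ↥(L.presheaf.stalk p), ∃ c : Fin N → k,
      L.presheaf.germ ⊤ p trivial (∑ i, α k (⊤ : Y.Opens) (c i) • τ i) - l ∈
        (IsLocalRing.maximalIdeal ↥(Y.presheaf.stalk p)) ^ 2 •
          (⊤ : Submodule ↥(Y.presheaf.stalk p) ↥(L.presheaf.stalk p)))
    (W : Y.affineOpens) (e : Γ(L, W.1)) (he : Gen W.1 e) (σ : Fin N → Γ(Y, W.1))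
    (hσ : ∀ i, σ i • e = resT (τ i) (O := W.1)) (m : Ideal Γ(Y, W.1)) (hm : m.IsMaximal) (t : Γ(Y, W.1)) :
    ∃ c : Fin N → k, ∑ i, α k W.1 (c i) * σ i - t ∈ m ^ 2 := by
  haveI : JacobsonSpace Y := LocallyOfFiniteType.jacobsonSpace (Y ↘ Spec (CommRingCat.of k))
  let 𝔮 : Spec Γ(Y, W.1) := ⟨m, hm.isPrime⟩
  let p := W.2.fromSpec 𝔮
  have hpW : p ∈ W.1 := W.2.opensRange_fromSpec.le ⟨𝔮, rfl⟩
  have hpr : W.2.primeIdealOf ⟨p, hpW⟩ = 𝔮 :=
    W.2.fromSpec.isOpenEmbedding.injective (W.2.fromSpec_primeIdealOf ⟨p, hpW⟩)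
  have hcl : IsClosed ({p} : Set Y) := by
    refine isClosed_singleton_of_isLocallyClosed_singleton ?_
    have h1 : IsClosed ({𝔮} : Set (Spec Γ(Y, W.1))) := (PrimeSpectrum.isClosed_singleton_iff_isMaximal 𝔮).2 hm
    have h2 := h1.isLocallyClosed.image W.2.fromSpec.isOpenEmbedding.isInducing
      W.2.fromSpec.isOpenEmbedding.isOpen_range.isLocallyClosed
    rwa [Set.image_singleton] at h2
  obtain ⟨c, hc⟩ := hjet p hcl (Y.presheaf.germ W.1 p hpW t • L.presheaf.germ W.1 p hpW e)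
  refine ⟨c, ?_⟩
  rw [germ_smul_sec hpW _ (resT_combine k W.1 e τ σ hσ c), ← sub_smul, ← map_sub] at hc
  have hb := he.bijective_germ p hpW
  have htop : (⊤ : Submodule ↥(Y.presheaf.stalk p) ↥(L.presheaf.stalk p)) =
      Submodule.span ↥(Y.presheaf.stalk p) {L.presheaf.germ W.1 p hpW e} :=
    (eq_top_iff.2 fun z _ => Submodule.mem_span_singleton.2 (hb.2 z)).symm
  rw [htop, Submodule.mem_smul_span_singleton] at hc
  obtain ⟨b, hb2, hbe⟩ := hc
  rw [hb.1 hbe] at hb2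
  letI : Algebra Γ(Y, W.1) ↥(Y.presheaf.stalk p) := (Y.presheaf.germ W.1 p hpW).hom.toAlgebra
  haveI : IsLocalization.AtPrime ↥(Y.presheaf.stalk p) m := by
    have := W.2.isLocalization_stalk ⟨p, hpW⟩
    rw [hpr] at this
    exact this
  rw [← IsLocalization.AtPrime.map_eq_maximalIdeal m ↥(Y.presheaf.stalk p), ← Ideal.map_pow] at hb2
  obtain ⟨u, hu, huz⟩ := (IsLocalization.algebraMap_mem_map_algebraMap_iff m.primeCompl ↥(Y.presheaf.stalk p) _ _).1
    (show algebraMap Γ(Y, W.1) ↥(Y.presheaf.stalk p) (∑ i, α k W.1 (c i) * σ i - t) ∈ _ from hb2)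
  obtain ⟨y, z, hz, h1⟩ := hm.exists_inv hu
  generalize ∑ i, α k W.1 (c i) * σ i - t = x at huz ⊢
  have e : x = (y * y * u + 2 * y * z) * (u * x) + (z * z) * x := by linear_combination (-x) * (y * u + z + 1) * h1
  rw [e]
  exact add_mem (Ideal.mul_mem_left _ _ huz) (Ideal.mul_mem_right _ _ (by rw [pow_two]; exact Ideal.mul_mem_mul hz hz))

theorem smooth_quot {A : Type u} [CommRing A] (φ : k →+* A) (I : Ideal A)
    (h : letI := φ.toAlgebra; Algebra.Smooth k (A ⧸ I)) : ((Ideal.Quotient.mk I).comp φ).Smooth := by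
  letI := φ.toAlgebra
  exact RingHom.smooth_algebraMap.2 h

theorem exists_good_jet [IsAlgClosed k] [Smooth (Y ↘ Spec (CommRingCat.of k))]
    [QuasiCompact (Y ↘ Spec (CommRingCat.of k))] (hL : PicF.IsInvertible L) {n : ℕ} (τ : Fin (n + 1) → Γ(L, ⊤))
    (hjet : ∀ p : Y, IsClosed ({p} : Set Y) → ∀ l : ↥(L.presheaf.stalk p), ∃ c : Fin (n + 1) → k,
      L.presheaf.germ ⊤ p trivial (∑ i, α k (⊤ : Y.Opens) (c i) • τ i) - l ∈
        (IsLocalRing.maximalIdeal ↥(Y.presheaf.stalk p)) ^ 2 •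
          (⊤ : Submodule ↥(Y.presheaf.stalk p) ↥(L.presheaf.stalk p))) :
    ∃ g : MvPolynomial (Fin (n + 1)) k, g ≠ 0 ∧ ∀ c : Fin (n + 1) → k, MvPolynomial.eval c g ≠ 0 →
      ∀ s : Coh.structureModule Y ⟶ L, sec s = ∑ i, α k (⊤ : Y.Opens) (c i) • τ i →
        Smooth ((PicF2.zeroScheme L s).subschemeι ≫ (Y ↘ Spec (CommRingCat.of k))) := by
  refine exists_good k hL τ fun W hW e he σ hσ => ?_
  letI := (α k W.1).toAlgebra
  haveI : Algebra.IsStandardSmooth k Γ(Y, W.1) := hW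
  obtain ⟨g, hg0, hg⟩ := exists_smooth_member_jet (k := k) σ fun m hm t => jets_chart k τ hjet W e he σ hσ m hm t
  exact ⟨g, hg0, fun c hc => smooth_quot k _ _ (hg c hc)⟩

theorem exists_good_gen [CharZero k] [Smooth (Y ↘ Spec (CommRingCat.of k))]
    [QuasiCompact (Y ↘ Spec (CommRingCat.of k))] (hL : PicF.IsInvertible L) {N : ℕ}
    (s : Fin N → (Coh.structureModule Y ⟶ L)) (hgen : ⨆ i, PicF2.zeroScheme L (s i) = ⊤) :
    ∃ g : MvPolynomial (Fin N) k, g ≠ 0 ∧ ∀ c : Fin N → k, MvPolynomial.eval c g ≠ 0 →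
      Smooth ((PicF2.zeroScheme L (∑ i, Formal.smulMod k (Coh.structureModule Y) (c i) ≫ s i)).subschemeι ≫
        (Y ↘ Spec (CommRingCat.of k))) := by
  obtain ⟨g, hg0, hg⟩ := exists_good k hL (fun i => sec (s i)) fun W hW e he σ hσ => by
    letI := (α k W.1).toAlgebra
    haveI : Algebra.IsStandardSmooth k Γ(Y, W.1) := hW
    obtain ⟨g, hg0, hg⟩ := exists_smooth_member_gen (k := k) σ (by
      have h := congrFun (congrArg Scheme.IdealSheafData.ideal hgen) W
      rw [Scheme.IdealSheafData.ideal_iSup, iSup_apply, Scheme.IdealSheafData.ideal_top] at h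
      refine eq_top_iff.2 (le_trans (le_of_eq h.symm) (iSup_le fun i => ?_))
      rw [ZeroSchemeLib.zeroScheme_ideal hL, ZeroSchemeLib.colonIdeal_of_gen (s i) he (hσ i)]
      exact Ideal.span_mono (Set.singleton_subset_iff.2 ⟨i, rfl⟩))
    exact ⟨g, hg0, fun c hc => smooth_quot k _ _ (hg c hc)⟩
  refine ⟨g, hg0, fun c hc => hg c hc _ ?_⟩
  rw [sec_sum]
  exact Finset.sum_congr rfl fun i _ => sec_smulMod k _ _

/-- Adding a fixed section to a jet-spanning family. -/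
theorem exists_good_translate [IsAlgClosed k] [Smooth (Y ↘ Spec (CommRingCat.of k))]
    [QuasiCompact (Y ↘ Spec (CommRingCat.of k))] (hL : PicF.IsInvertible L) {m : ℕ}
    (s : Fin m → (Coh.structureModule Y ⟶ L)) (f : Coh.structureModule Y ⟶ L)
    (hjet : ∀ p : Y, IsClosed ({p} : Set Y) → ∀ l : ↥(L.presheaf.stalk p), ∃ c : Fin m → k,
      (L.presheaf.germ ⊤ p trivial)
          (PicF2.secVal L (∑ i : Fin m, Formal.smulMod k (Coh.structureModule Y) (c i) ≫ s i) ⊤) - l ∈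
        (IsLocalRing.maximalIdeal ↥(Y.presheaf.stalk p)) ^ 2 •
          (⊤ : Submodule ↥(Y.presheaf.stalk p) ↥(L.presheaf.stalk p))) :
    ∃ q : MvPolynomial (Fin m) k, q ≠ 0 ∧ ∀ c : Fin m → k, MvPolynomial.eval c q ≠ 0 →
      Smooth ((PicF2.zeroScheme L (f + ∑ i : Fin m, Formal.smulMod k (Coh.structureModule Y) (c i) ≫ s i)).subschemeι ≫
        (Y ↘ Spec (CommRingCat.of k))) := by
  let τ : Fin (m + 1) → Γ(L, ⊤) := Fin.cons (sec f) fun i => sec (s i)
  let P : (Fin (m + 1) → k) → Γ(L, ⊤) := fun c => ∑ i, α k (⊤ : Y.Opens) (c i) • τ i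
  have hsum : ∀ c : Fin m → k, sec (∑ i, Formal.smulMod k (Coh.structureModule Y) (c i) ≫ s i) =
      ∑ i, α k (⊤ : Y.Opens) (c i) • sec (s i) := fun c => by
    rw [sec_sum]; exact Finset.sum_congr rfl fun i _ => sec_smulMod k _ _
  obtain ⟨g, hg0, hg⟩ := exists_good_jet k hL τ fun p hp l => by
    obtain ⟨c, hc⟩ := hjet p hp l
    refine ⟨Fin.cons 0 c, ?_⟩
    have e : ∑ i, α k (⊤ : Y.Opens) ((Fin.cons 0 c : Fin (m + 1) → k) i) • τ i =
        (PicF2.secVal L (∑ i : Fin m, Formal.smulMod k (Coh.structureModule Y) (c i) ≫ s i) ⊤ : Γ(L, ⊤)) := by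
      rw [ZeroSchemeLib.secVal_eq, resT, res_self, hsum]
      simp [Fin.sum_univ_succ, τ]
    rw [e]
    exact hc
  let Bad : (Fin (m + 1) → k) → Prop := fun c =>
    ¬ Smooth ((PicF2.zeroScheme L (DCohLib.secHom L (P c))).subschemeι ≫ (Y ↘ Spec (CommRingCat.of k)))
  obtain ⟨q, hq0, hq⟩ := exists_dehom g hg0 Bad (fun c hc => by_contra fun h0 => hc (hg c h0 _ (sec_secHom _)))
    fun c a ha hc => by
      have h1 : P (a • c) = α k (⊤ : Y.Opens) a • P c := by
        simp only [P, Finset.smul_sum, Pi.smul_apply, smul_eq_mul, map_mul, mul_smul]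
      show ¬ _
      rw [ZeroSchemeLib.zeroScheme_eq_of_unit hL (DCohLib.secHom L (P c)) (DCohLib.secHom L (P (a • c)))
        (α k (⊤ : Y.Opens) a) ((IsUnit.mk0 a ha).map _) (by rw [sec_secHom, sec_secHom, h1])]
      exact hc
  refine ⟨q, hq0, fun c hc => ?_⟩
  have h := not_not.1 (hq c hc)
  have e : DCohLib.secHom L (P (Fin.cons 1 c)) =
      f + ∑ i : Fin m, Formal.smulMod k (Coh.structureModule Y) (c i) ≫ s i := by
    rw [← secHom_sec (f + _), sec_add, hsum]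
    refine congrArg _ ?_
    simp [P, τ, Fin.sum_univ_succ]
  rwa [e] at h

end Groth.Agent.BertiniLib
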